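import Groth.Prelude.Def_SGA4hB
import Mathlib

/-!
The characteristic series of a chain endomorphism of a contractible complex of finite free modules is trivial,
and the multiplicativity needed for mapping cones.
-/

set_option autoImplicit false
universe u
open CategoryTheory Polynomial

namespace Groth.Agent.CharSeries

variable {A : Type u} [CommRing A]

section Linear
variable {M N : ModuleCat.{u} A}

theorem detOneSub_eq {ι : Type*} [Fintype ι] [DecidableEq ι] (b : Module.Basis ι A M) (f : M ⟶ M) :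
    SGA4h.detOneSub M f = (LinearMap.toMatrix b b f.hom).charpolyRev := by
  rw [SGA4h.detOneSub, ← LinearMap.det_toMatrix (b.baseChange A[X]), Matrix.charpolyRev]
  congr 1
  ext i j : 2
  rw [Matrix.sub_apply, Matrix.smul_apply, Matrix.map_apply, LinearMap.toMatrix_apply, LinearMap.toMatrix_apply]
  simp [Matrix.one_apply, Finsupp.single_apply, eq_comm, Algebra.smul_def, Polynomial.algebraMap_eq,
    Polynomial.coeff_C_mul, mul_comm Polynomial.X]

theorem detOneSub_comm [Module.Free A M] [Module.Finite A M] [Module.Free A N] [Module.Finite A N]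
    (f : M ⟶ N) (g : N ⟶ M) : SGA4h.detOneSub M (f ≫ g) = SGA4h.detOneSub N (g ≫ f) := by
  classical
  let b := Module.Free.chooseBasis A M
  let c := Module.Free.chooseBasis A N
  rw [detOneSub_eq b, detOneSub_eq c, ModuleCat.hom_comp, ModuleCat.hom_comp, LinearMap.toMatrix_comp b c b,
    LinearMap.toMatrix_comp c b c, Matrix.charpolyRev, Matrix.charpolyRev, Matrix.map_mul, Matrix.map_mul,
    ← Matrix.smul_mul, Matrix.det_one_sub_mul_comm, Matrix.mul_smul]

theorem detOneSub_split [Module.Free A M] [Module.Finite A M] (w a b : M ⟶ M) (h : a + b = 𝟙 M)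
    (h0 : b ≫ w ≫ a = 0) : SGA4h.detOneSub M w = SGA4h.detOneSub M (a ≫ w) * SGA4h.detOneSub M (b ≫ w) := by
  classical
  let e := Module.Free.chooseBasis A M
  let W := LinearMap.toMatrix e e w.hom
  let P := LinearMap.toMatrix e e a.hom
  let Q := LinearMap.toMatrix e e b.hom
  have hPQ : P + Q = 1 := by
    show LinearMap.toMatrix e e a.hom + LinearMap.toMatrix e e b.hom = 1
    rw [← map_add, ← ModuleCat.hom_add, h, ModuleCat.hom_id, LinearMap.toMatrix_id]
  have hPWQ : P * W * Q = 0 := by
    have h1 := congrArg (fun f => LinearMap.toMatrix e e f.hom) h0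
    simpa only [ModuleCat.hom_comp, LinearMap.toMatrix_comp e e e, ModuleCat.hom_zero, map_zero] using h1
  rw [detOneSub_eq e, detOneSub_eq e, detOneSub_eq e, ModuleCat.hom_comp, ModuleCat.hom_comp,
    LinearMap.toMatrix_comp e e e, LinearMap.toMatrix_comp e e e]
  simp only [Matrix.charpolyRev]
  rw [← Matrix.det_mul]
  congr 1
  have hW : W = W * P + W * Q := by rw [← mul_add, hPQ, mul_one]
  have h2 : (W * P).map (C : A → A[X]) * (W * Q).map C = 0 := by
    rw [← Matrix.map_mul, show W * P * (W * Q) = W * (P * W * Q) by simp only [mul_assoc], hPWQ, mul_zero,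
      Matrix.map_zero _ C.map_zero]
  show 1 - (X : A[X]) • W.map C = (1 - (X : A[X]) • (W * P).map C) * (1 - (X : A[X]) • (W * Q).map C)
  rw [sub_mul, mul_sub, mul_sub, one_mul, one_mul, mul_one, smul_mul_smul_comm, h2, smul_zero, sub_zero]
  conv_lhs => rw [hW, Matrix.map_add _ C.map_add, smul_add]
  abel

theorem detOneSub_of_isZero (h : Limits.IsZero M) (f : M ⟶ M) : SGA4h.detOneSub M f = 1 := by
  haveI := ModuleCat.subsingleton_of_isZero h
  haveI : Module.Free A M := Module.Free.of_subsingleton A M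
  classical
  haveI : IsEmpty (Fin 0) := inferInstance
  rw [detOneSub_eq (Module.Basis.empty M (ι := Fin 0)), Matrix.charpolyRev, Matrix.det_isEmpty]

end Linear

section Complex

variable (K : CochainComplex (ModuleCat.{u} A) ℤ) (u : K ⟶ K)

/-- The product over a parity class. -/
noncomputable def prodP (p : ℤ → Prop) (f : ℤ → A[X]) : A[X] := ∏ᶠ i : {i : ℤ // p i}, f i.1

theorem prodP_mul {p : ℤ → Prop} {f g : ℤ → A[X]} (hf : (Function.mulSupport f).Finite)
    (hg : (Function.mulSupport g).Finite) : prodP p (fun i => f i * g i) = prodP p f * prodP p g :=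
  finprod_mul_distrib (hf.preimage Subtype.val_injective.injOn) (hg.preimage Subtype.val_injective.injOn)

theorem prodP_shift {p q : ℤ → Prop} (h : ∀ i, p i ↔ q (i + 1)) (f : ℤ → A[X]) :
    prodP p (fun i => f (i + 1)) = prodP q f :=
  finprod_eq_of_bijective (fun i => ⟨i.1 + 1, (h i.1).1 i.2⟩)
    ⟨fun i j hij => Subtype.ext (add_right_cancel (congrArg Subtype.val hij)),
      fun j => ⟨⟨j.1 - 1, (h _).2 (by rw [sub_add_cancel]; exact j.2)⟩, Subtype.ext (sub_add_cancel _ _)⟩⟩
    fun _ => rfl

theorem prodP_even_shift (f : ℤ → A[X]) : prodP Even (fun i => f (i + 1)) = prodP Odd f :=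
  prodP_shift (fun i => by simp [parity_simps]) f

theorem prodP_odd_shift (f : ℤ → A[X]) : prodP Odd (fun i => f (i + 1)) = prodP Even f :=
  prodP_shift (fun i => by rw [Int.even_add_one, Int.not_even_iff_odd]) f

theorem finite_mulSupport {f : ℤ → A[X]} {a b : ℤ} (h : ∀ i, i < a ∨ b < i → f i = 1) :
    (Function.mulSupport f).Finite :=
  (Set.finite_Icc a b).subset fun i hi =>
    ⟨le_of_not_gt fun h' => hi (h i (Or.inl h')), le_of_not_gt fun h' => hi (h i (Or.inr h'))⟩

theorem finite_mulSupport_shift {f : ℤ → A[X]} {a b : ℤ} (h : ∀ i, i < a ∨ b < i → f i = 1) :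
    (Function.mulSupport fun i => f (i + 1)).Finite :=
  finite_mulSupport (a := a - 1) (b := b - 1) fun i hi => h (i + 1) (by lia)

variable {K} (a b : ℤ) (hz : ∀ i, i < a ∨ b < i → Limits.IsZero (K.X i))
  (hfree : ∀ i, Module.Finite A (K.X i) ∧ Module.Free A (K.X i))

include hz hfree in
/-- the series of a contractible complex is trivial -/
theorem detEven_eq_detOdd (H : Homotopy (𝟙 K) 0) : SGA4h.detEven K u = SGA4h.detOdd K u := by
  haveI := fun i => (hfree i).1
  haveI := fun i => (hfree i).2
  let Φ : ℤ → A[X] := fun i => SGA4h.detOneSub (K.X i) ((H.hom i (i - 1) ≫ K.d (i - 1) i) ≫ u.f i)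
  have key : ∀ i, SGA4h.detOneSub (K.X i) (u.f i) = Φ (i + 1) * Φ i := by
    intro i
    have hH : K.d i (i + 1) ≫ H.hom (i + 1) i + H.hom i (i - 1) ≫ K.d (i - 1) i = 𝟙 _ := by
      have := H.comm i
      rw [dNext_eq _ (show (ComplexShape.up ℤ).Rel i (i + 1) from rfl),
        prevD_eq _ (show (ComplexShape.up ℤ).Rel (i - 1) i from sub_add_cancel i 1)] at this
      simpa using this.symm
    have h0 : (H.hom i (i - 1) ≫ K.d (i - 1) i) ≫ u.f i ≫ K.d i (i + 1) ≫ H.hom (i + 1) i = 0 := by
      rw [HomologicalComplex.Hom.comm_assoc, Category.assoc, HomologicalComplex.d_comp_d_assoc]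
      simp
    have hj : ∀ j k, k = j - 1 → SGA4h.detOneSub (K.X j) ((H.hom j k ≫ K.d k j) ≫ u.f j) = Φ j :=
      fun j k hk => by subst hk; rfl
    rw [detOneSub_split (u.f i) _ _ hH h0, ← hj (i + 1) i (add_sub_cancel_right i 1).symm]
    congr 1
    rw [Category.assoc, detOneSub_comm, Category.assoc, HomologicalComplex.Hom.comm, Category.assoc]
  have hΦ : ∀ i, i < a ∨ b < i → Φ i = 1 := fun i hi => detOneSub_of_isZero (hz i hi) _
  have e : ∀ p, prodP p (fun i => Φ (i + 1) * Φ i) = prodP p (fun i => Φ (i + 1)) * prodP p Φ :=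
    fun p => prodP_mul (finite_mulSupport_shift hΦ) (finite_mulSupport hΦ)
  calc SGA4h.detEven K u = prodP Even (fun i => Φ (i + 1) * Φ i) := by
        simp only [SGA4h.detEven, prodP, key]
    _ = prodP Odd (fun i => Φ (i + 1) * Φ i) := by rw [e, e, prodP_even_shift, prodP_odd_shift, mul_comm]
    _ = SGA4h.detOdd K u := by simp only [SGA4h.detOdd, prodP, key]

end Complex

end Groth.Agent.CharSeries
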